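import Groth.Agent.Tors9.Amitsur
import Groth.Agent.SchTorsor.Props
import Mathlib.AlgebraicGeometry.Sites.Fpqc
import Mathlib.AlgebraicGeometry.Pullbacks

/-! Sections of a torsor from a coboundary on a faithfully flat cover. -/

set_option autoImplicit false
set_option linter.style.haveILetI false
set_option backward.isDefEq.respectTransparency.types false
universe u

open CategoryTheory CategoryTheory.Limits MonoidalCategory CartesianMonoidalCategory MonObj GrpObj AlgebraicGeometry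
open scoped TensorProduct

noncomputable section

namespace Groth.Agent.Tors9

variable {S : Scheme.{u}} {G X : Over S} [GrpObj G] {a : AlgGrp.Action G X}
variable {R : Type u} [CommRing R] (j : Spec (CommRingCat.of R) ⟶ S)
variable {B C C' : Type u} [CommRing B] [Algebra R B] [CommRing C] [Algebra R C] [CommRing C'] [Algebra R C']

/-- The spectrum of an algebra over an affine piece of the base. -/
abbrev P (C : Type u) [CommRing C] [Algebra R C] : Over S :=
  Over.mk (Spec.map (CommRingCat.ofHom (algebraMap R C)) ≫ j)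

def Pmap (χ : C →ₐ[R] C') : P j C' ⟶ P j C :=
  Over.homMk (Spec.map (CommRingCat.ofHom χ.toRingHom)) (by
    change Spec.map _ ≫ Spec.map _ ≫ j = Spec.map _ ≫ j
    rw [← Category.assoc, ← Spec.map_comp, ← CommRingCat.ofHom_comp]
    congr 3
    exact RingHom.ext χ.commutes)

theorem Pmap_left (χ : C →ₐ[R] C') : (Pmap j χ).left = Spec.map (CommRingCat.ofHom χ.toRingHom) := rfl

theorem Pmap_comp {C'' : Type u} [CommRing C''] [Algebra R C''] (χ : C →ₐ[R] C') (χ' : C' →ₐ[R] C'') :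
    Pmap j (χ'.comp χ) = Pmap j χ' ≫ Pmap j χ := by
  ext1
  change Spec.map _ = Spec.map _ ≫ Spec.map _
  rw [← Spec.map_comp]
  rfl

variable (ha : NonAbH1.IsPseudoTorsorSch a) (x₀ : P j B ⟶ X)

/-- The element of the group carrying the `ψ`-point to the `φ`-point. -/
def gd (φ ψ : B →ₐ[R] C) : P j C ⟶ G :=
  (SchTorsor.exists_div ha (Pmap j φ ≫ x₀) (Pmap j ψ ≫ x₀)).choose

theorem gd_spec (φ ψ : B →ₐ[R] C) : lift (gd j ha x₀ φ ψ) (Pmap j ψ ≫ x₀) ≫ a.act = Pmap j φ ≫ x₀ :=
  (SchTorsor.exists_div ha (Pmap j φ ≫ x₀) (Pmap j ψ ≫ x₀)).choose_spec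

theorem gd_unique {φ ψ : B →ₐ[R] C} {g : P j C ⟶ G} (h : lift g (Pmap j ψ ≫ x₀) ≫ a.act = Pmap j φ ≫ x₀) :
    g = gd j ha x₀ φ ψ :=
  SchTorsor.act_free ha (h.trans (gd_spec j ha x₀ φ ψ).symm)

theorem gd_comp (χ : C →ₐ[R] C') (φ ψ : B →ₐ[R] C) :
    Pmap j χ ≫ gd j ha x₀ φ ψ = gd j ha x₀ (χ.comp φ) (χ.comp ψ) := by
  refine gd_unique j ha x₀ ?_
  rw [Pmap_comp, Pmap_comp, Category.assoc, Category.assoc, ← comp_lift, Category.assoc, gd_spec]

theorem gd_trans (φ ψ χ : B →ₐ[R] C) : gd j ha x₀ φ χ = gd j ha x₀ φ ψ * gd j ha x₀ ψ χ := by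
  refine (gd_unique j ha x₀ ?_).symm
  rw [SchTorsor.act_assoc, gd_spec, gd_spec]

/-- The universal cocycle relation. -/
theorem gd_cocycle :
    Pmap j (e₁₃ R B) ≫ gd j ha x₀ (iL R B) (iR R B) =
      (Pmap j (e₁₂ R B) ≫ gd j ha x₀ (iL R B) (iR R B)) * (Pmap j (e₂₃ R B) ≫ gd j ha x₀ (iL R B) (iR R B)) := by
  rw [gd_comp, gd_comp, gd_comp]
  simp only [e₁₂, e₁₃, e₂₃, iL, iR, Algebra.TensorProduct.productMap_left, Algebra.TensorProduct.productMap_right]
  exact gd_trans j ha x₀ _ _ _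

include ha in
/-- A coboundary gives a section. -/
theorem hasSection_of_coboundary [Module.FaithfullyFlat R B] (f : P j B ⟶ G)
    (hf : gd j ha x₀ (iL R B) (iR R B) = (Pmap j (iL R B) ≫ f) * (Pmap j (iR R B) ≫ f)⁻¹) :
    NonAbH1.HasSectionOver X j := by
  let s : P j B ⟶ X := lift f⁻¹ x₀ ≫ a.act
  have hs : Pmap j (iL R B) ≫ s = Pmap j (iR R B) ≫ s := by
    change _ ≫ lift _ _ ≫ _ = _ ≫ lift _ _ ≫ _
    rw [comp_lift_assoc, comp_lift_assoc, ← gd_spec j ha x₀ (iL R B) (iR R B), ← SchTorsor.act_assoc,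
      GrpObj.comp_inv, GrpObj.comp_inv, hf, inv_mul_cancel_left]
  let p : Spec (CommRingCat.of B) ⟶ Spec (CommRingCat.of R) := Spec.map (CommRingCat.ofHom (algebraMap R B))
  have hff : (algebraMap R B).FaithfullyFlat := RingHom.faithfullyFlat_algebraMap_iff.mpr inferInstance
  haveI : Flat p := by rw [HasRingHomProperty.Spec_iff (P := @Flat)]; exact hff.flat
  haveI : Surjective p := ⟨(RingHom.FaithfullyFlat.iff_flat_and_comap_surjective.mp hff).2⟩
  let sl : Spec (CommRingCat.of B) ⟶ X.left := s.left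
  have hco : ∀ {Z : Scheme.{u}} (g₁ g₂ : Z ⟶ Spec (CommRingCat.of B)), g₁ ≫ p = g₂ ≫ p → g₁ ≫ sl = g₂ ≫ sl := by
    intro Z g₁ g₂ hg
    let l : Z ⟶ Spec (CommRingCat.of (B ⊗[R] B)) := pullback.lift g₁ g₂ hg ≫ (pullbackSpecIso R B B).hom
    have h1 : l ≫ Spec.map (CommRingCat.ofHom (iL R B).toRingHom) = g₁ := by
      rw [Category.assoc]
      refine (_ ≫= ?_).trans (pullback.lift_fst g₁ g₂ hg)
      exact (Iso.eq_inv_comp _).mp (pullbackSpecIso_inv_fst R B B).symm
    have h2 : l ≫ Spec.map (CommRingCat.ofHom (iR R B).toRingHom) = g₂ := by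
      rw [Category.assoc]
      refine (_ ≫= ?_).trans (pullback.lift_snd g₁ g₂ hg)
      exact (Iso.eq_inv_comp _).mp (pullbackSpecIso_inv_snd R B B).symm
    have h3 := congrArg CommaMorphism.left hs
    calc g₁ ≫ sl = l ≫ Spec.map (CommRingCat.ofHom (iL R B).toRingHom) ≫ sl := by rw [← Category.assoc, h1]
      _ = l ≫ Spec.map (CommRingCat.ofHom (iR R B).toRingHom) ≫ sl := l ≫= h3
      _ = g₂ ≫ sl := by rw [← Category.assoc, h2]
  refine ⟨EffectiveEpi.desc p sl hco, ?_⟩
  rw [← cancel_epi p, ← Category.assoc, EffectiveEpi.fac]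
  exact Over.w s

variable {R' : Type u} [CommRing R'] [Algebra R R'] {D : Type u} [CommRing D] [Algebra R D] [Algebra R' D]
  [IsScalarTower R R' D] {B' : Type u} [CommRing B'] [Algebra R B'] [Algebra R' B'] [IsScalarTower R R' B']

/-- The smaller affine piece. -/
abbrev j' (R' : Type u) [CommRing R'] [Algebra R R'] : Spec (CommRingCat.of R') ⟶ S :=
  Spec.map (CommRingCat.ofHom (algebraMap R R')) ≫ j

/-- The same scheme seen over the bigger piece. -/
def k (D : Type u) [CommRing D] [Algebra R D] [Algebra R' D] [IsScalarTower R R' D] : P (j' j R') D ⟶ P j D :=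
  Over.homMk (𝟙 _) (by
    refine (Category.id_comp _).trans ?_
    change Spec.map _ ≫ j = Spec.map _ ≫ Spec.map _ ≫ j
    rw [← Category.assoc, ← Spec.map_comp, ← CommRingCat.ofHom_comp, ← IsScalarTower.algebraMap_eq])

theorem Pmap_k (φ : B' →ₐ[R'] D) :
    Pmap (j' j R') φ ≫ k j B' = k j D ≫ Pmap j (φ.restrictScalars R) := by
  ext1
  exact (Category.comp_id _).trans (Category.id_comp _).symm

/-- Changing to a smaller piece and a bigger algebra. -/
theorem gd_change (q : B →ₐ[R] B') (φ ψ : B' →ₐ[R'] D) :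
    gd (j' j R') ha (k j B' ≫ Pmap j q ≫ x₀) φ ψ =
      k j D ≫ gd j ha x₀ ((φ.restrictScalars R).comp q) ((ψ.restrictScalars R).comp q) := by
  refine (gd_unique (j' j R') ha _ ?_).symm
  rw [reassoc_of% (Pmap_k (j := j) (R := R) φ), reassoc_of% (Pmap_k (j := j) (R := R) ψ), ← Category.assoc (Pmap j _),
    ← Category.assoc (Pmap j _), ← Pmap_comp, ← Pmap_comp, ← comp_lift, Category.assoc, gd_spec]

omit ha in
/-- A torsor over an affine base piece is trivialised by a faithfully flat algebra. -/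
theorem exists_cover_point [IsAffineHom X.hom] [Flat X.hom] [Surjective X.hom] (R : CommRingCat.{u}) (j : Spec R ⟶ S) :
    ∃ (B : Type u) (_ : CommRing B) (_ : Algebra R B), Module.FaithfullyFlat R B ∧
      Nonempty (P (R := R) j B ⟶ X) := by
  let W := pullback X.hom j
  haveI : IsAffine W := isAffine_of_isAffineHom (pullback.snd X.hom j)
  let q : Spec Γ(W, ⊤) ⟶ Spec R := W.isoSpec.inv ≫ pullback.snd X.hom j
  haveI : Flat q := inferInstance
  haveI : Surjective q := inferInstance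
  letI : Algebra R Γ(W, ⊤) := (Spec.preimage q).hom.toAlgebra
  have hq : Spec.map (CommRingCat.ofHom (algebraMap R Γ(W, ⊤))) = q := Spec.map_preimage q
  refine ⟨Γ(W, ⊤), inferInstance, inferInstance, ?_, ⟨Over.homMk (W.isoSpec.inv ≫ pullback.fst X.hom j) ?_⟩⟩
  · refine RingHom.faithfullyFlat_algebraMap_iff.mp
      (RingHom.FaithfullyFlat.iff_flat_and_comap_surjective.mpr ⟨?_, ?_⟩)
    · have : Flat (Spec.map (CommRingCat.ofHom (algebraMap R Γ(W, ⊤)))) := hq ▸ inferInstance
      rwa [HasRingHomProperty.Spec_iff (P := @Flat)] at this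
    · have : Surjective (Spec.map (CommRingCat.ofHom (algebraMap R Γ(W, ⊤)))) := hq ▸ inferInstance
      exact this.surj
  · change (W.isoSpec.inv ≫ pullback.fst X.hom j) ≫ X.hom = Spec.map (CommRingCat.ofHom (algebraMap R Γ(W, ⊤))) ≫ j
    rw [hq, Category.assoc, Category.assoc, pullback.condition]

/-- Zariski local triviality from sections over open immersions. -/
theorem isLocallyTrivial_zariski {Y : Over S}
    (h : ∀ s : S, ∃ (U : Scheme.{u}) (i : U ⟶ S), IsOpenImmersion i ∧ s ∈ Set.range i ∧ NonAbH1.HasSectionOver Y i) :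
    NonAbH1.IsLocallyTrivialFor Scheme.zariskiPrecoverage Y := by
  choose U i hi hs hsec using h
  refine ⟨Presieve.ofArrows U i, (Scheme.ofArrows_mem_precoverage_iff _).mpr ⟨fun s => ⟨s, hs s⟩, hi⟩, ?_⟩
  rintro _ _ ⟨s⟩
  exact hsec s

end Groth.Agent.Tors9
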