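import Groth.Agent.Tors9.Descent
import Groth.Agent.GrpSchLib.GaPts
import Groth.Agent.KerSeq9.Basic
import Mathlib.RingTheory.Spectrum.Prime.Basic

/-! Torsors under the additive and multiplicative groups are Zariski locally trivial. -/

set_option autoImplicit false
set_option linter.style.haveILetI false
set_option backward.isDefEq.respectTransparency.types false
universe u

open CategoryTheory CategoryTheory.Limits MonoidalCategory CartesianMonoidalCategory MonObj GrpObj AlgebraicGeometry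
open scoped TensorProduct
open Groth.Agent.GrpSchLib

noncomputable section

namespace Groth.Agent.Tors9

attribute [-instance] ULift.module ULift.module'

variable {S : Scheme.{u}} {X : Over S} {R : Type u} [CommRing R] (j : Spec (CommRingCat.of R) ⟶ S)
variable {B C C' : Type u} [CommRing B] [Algebra R B] [CommRing C] [Algebra R C] [CommRing C'] [Algebra R C']

theorem appTop_Pmap (χ : C →ₐ[R] C') (x : Γ((P j C).left, ⊤)) :
    (Scheme.ΓSpecIso (CommRingCat.of C')).hom ((Pmap j χ).left.appTop x) =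
      χ ((Scheme.ΓSpecIso (CommRingCat.of C)).hom x) :=
  congrArg (fun f => (ConcreteCategory.hom f) x) (Scheme.ΓSpecIso_naturality (CommRingCat.ofHom χ.toRingHom))

def valA (g : P j C ⟶ Red.Ga S) : C := (Scheme.ΓSpecIso (CommRingCat.of C)).hom (Red.gaFn g)

theorem valA_comp (χ : C →ₐ[R] C') (g : P j C ⟶ Red.Ga S) : valA j (Pmap j χ ≫ g) = χ (valA j g) := by
  rw [valA, GaPts.gaFn_comp, appTop_Pmap]
  rfl

theorem valA_mul (g g' : P j C ⟶ Red.Ga S) : valA j (g * g') = valA j g + valA j g' := by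
  rw [valA, GaPts.gaFn_mul]
  exact map_add _ _ _

theorem valA_inv (g : P j C ⟶ Red.Ga S) : valA j g⁻¹ = -valA j g := by
  refine eq_neg_of_add_eq_zero_left ?_
  rw [← valA_mul, inv_mul_cancel, valA, GaPts.gaFn_one]
  exact map_zero _

theorem valA_inj {g g' : P j C ⟶ Red.Ga S} (h : valA j g = valA j g') : g = g' :=
  GaPts.gaFn_injective ((Scheme.ΓSpecIso (CommRingCat.of C)).commRingCatIsoToRingEquiv.injective h)

theorem exists_valA (c : C) : ∃ g : P j C ⟶ Red.Ga S, valA j g = c :=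
  ⟨GaPts.ptOfFn ((Scheme.ΓSpecIso (CommRingCat.of C)).inv c), by
    rw [valA, GaPts.gaFn_ptOfFn]
    exact congrArg (fun f => (ConcreteCategory.hom f) c) (Scheme.ΓSpecIso (CommRingCat.of C)).inv_hom_id⟩

theorem ga_hasSection [Module.FaithfullyFlat R B] {a : AlgGrp.Action (Red.Ga S) X}
    (ha : NonAbH1.IsPseudoTorsorSch a) (x₀ : P j B ⟶ X) : NonAbH1.HasSectionOver X j := by
  have h := congrArg (valA j) (gd_cocycle j ha x₀)
  rw [valA_mul, valA_comp, valA_comp, valA_comp] at h
  obtain ⟨c, hc⟩ := add_coboundary _ h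
  obtain ⟨f, hf⟩ := exists_valA j c
  refine hasSection_of_coboundary j ha x₀ f (valA_inj j ?_)
  rw [valA_mul, valA_inv, valA_comp, valA_comp, hf, hc, sub_eq_add_neg]

def valM (g : P j C ⟶ Red.Gm S) : Cˣ :=
  Units.map (Scheme.ΓSpecIso (CommRingCat.of C)).hom.hom.toMonoidHom (GmPts.unitOfPt g)

theorem val_valM (g : P j C ⟶ Red.Gm S) :
    (valM j g : C) = (Scheme.ΓSpecIso (CommRingCat.of C)).hom (Red.gmFn g) := rfl

theorem valM_comp (χ : C →ₐ[R] C') (g : P j C ⟶ Red.Gm S) : (valM j (Pmap j χ ≫ g) : C') = χ (valM j g : C) := by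
  rw [val_valM, val_valM, ← appTop_Pmap j χ]
  exact congrArg _ (congrArg Units.val (GmPts.unitOfPt_comp (Pmap j χ) g))

theorem valM_mul (g g' : P j C ⟶ Red.Gm S) : valM j (g * g') = valM j g * valM j g' := by
  refine Units.ext ?_
  rw [Units.val_mul, val_valM, val_valM, val_valM, GmPts.gmFn_mul]
  exact map_mul _ _ _

theorem valM_inj {g g' : P j C ⟶ Red.Gm S} (h : valM j g = valM j g') : g = g' :=
  KerSeq9.ptOfUnit_inj <| Units.ext <| by
    have h' : (valM j g : C) = (valM j g' : C) := by rw [h]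
    rw [val_valM, val_valM] at h'
    exact (ConcreteCategory.bijective_of_isIso (Scheme.ΓSpecIso (CommRingCat.of C)).hom).1 h'

theorem exists_valM (c : Cˣ) : ∃ g : P j C ⟶ Red.Gm S, valM j g = c :=
  ⟨GmPts.ptOfUnit (Units.map (Scheme.ΓSpecIso (CommRingCat.of C)).inv.hom.toMonoidHom c), by
    refine Units.ext ?_
    rw [valM, GmPts.unitOfPt_ptOfUnit]
    exact congrArg (fun f => (ConcreteCategory.hom f) (c : C)) (Scheme.ΓSpecIso (CommRingCat.of C)).inv_hom_id⟩

theorem valM_k (R' : Type u) [CommRing R'] [Algebra R R'] (D : Type u) [CommRing D] [Algebra R D] [Algebra R' D]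
    [IsScalarTower R R' D] (g : P j D ⟶ Red.Gm S) : valM (j' j R') (k j D ≫ g) = valM j g := by
  refine Units.ext ?_
  rw [val_valM, val_valM]
  have hl : (k (R' := R') j D ≫ g).left = g.left := by
    rw [Over.comp_left]
    exact Category.id_comp _
  simp only [Red.gmFn, hl]

theorem gm_hasSection_near [Module.FaithfullyFlat R B] {a : AlgGrp.Action (Red.Gm S) X}
    (ha : NonAbH1.IsPseudoTorsorSch a) (x₀ : P j B ⟶ X) (p : PrimeSpectrum R) :
    ∃ r ∉ p.asIdeal, NonAbH1.HasSectionOver X (j' j (Localization.Away r)) := by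
  let τ : (B ⊗[R] B)ˣ := valM j (gd j ha x₀ (iL R B) (iR R B))
  have h : e₁₃ R B τ = e₁₂ R B τ * e₂₃ R B τ := by
    have h := congrArg (fun g => (valM j g : B ⊗[R] (B ⊗[R] B))) (gd_cocycle j ha x₀)
    simp only [valM_mul, Units.val_mul, valM_comp] at h
    exact h
  obtain ⟨r, hr, b, hb, b', hbb'⟩ := exists_line_pair τ h p
  refine ⟨r, hr, ?_⟩
  let R' := Localization.Away r
  let B' := R' ⊗[R] B
  let q : B →ₐ[R] B' := Algebra.TensorProduct.includeRight
  have hu : IsUnit (q b) := by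
    refine isUnit_of_mul_isUnit_left (y := q b') ?_
    rw [← map_mul, hbb', AlgHom.commutes, IsScalarTower.algebraMap_apply R R' B']
    exact (IsLocalization.Away.algebraMap_isUnit r).map _
  obtain ⟨f, hf⟩ := exists_valM (j' j R') hu.unit
  refine hasSection_of_coboundary (j' j R') ha (k j B' ≫ Pmap j q ≫ x₀) f (valM_inj (j' j R') ?_)
  let L := iL R' B'
  let Rr := iR R' B'
  let ρ : B ⊗[R] B →ₐ[R] B' ⊗[R'] B' :=
    Algebra.TensorProduct.productMap ((L.restrictScalars R).comp q) ((Rr.restrictScalars R).comp q)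
  have hL : ρ.comp (iL R B) = (L.restrictScalars R).comp q :=
    AlgHom.ext fun x => by simp [ρ]
  have hR : ρ.comp (iR R B) = (Rr.restrictScalars R).comp q :=
    AlgHom.ext fun x => by simp [ρ]
  have hlhs : (valM (j' j R') (gd (j' j R') ha (k j B' ≫ Pmap j q ≫ x₀) L Rr) : B' ⊗[R'] B') = ρ τ := by
    rw [gd_change j ha x₀ q L Rr, valM_k, ← hL, ← hR, ← gd_comp, valM_comp]
  have hrel : L (q b) = ρ τ * Rr (q b) := by
    have h1 : ρ (iL R B b) = ρ ((τ : B ⊗[R] B) * iR R B b) := congrArg ρ hb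
    rw [map_mul] at h1
    exact (DFunLike.congr_fun hL b).symm.trans (h1.trans (congrArg (ρ τ * ·) (DFunLike.congr_fun hR b)))
  have key : valM (j' j R') (gd (j' j R') ha (k j B' ≫ Pmap j q ≫ x₀) L Rr) * valM (j' j R') (Pmap (j' j R') Rr ≫ f) =
      valM (j' j R') (Pmap (j' j R') L ≫ f) := by
    refine Units.ext ?_
    rw [Units.val_mul, valM_comp, valM_comp, hlhs, hf]
    exact hrel.symm
  refine mul_right_cancel (b := valM (j' j R') (Pmap (j' j R') Rr ≫ f)) (key.trans ?_)
  rw [← valM_mul, inv_mul_cancel_right]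

theorem ga_zariski {a : AlgGrp.Action (Red.Ga S) X} (ha : NonAbH1.IsPseudoTorsorSch a)
    [IsAffineHom X.hom] [Flat X.hom] [Surjective X.hom] :
    NonAbH1.IsLocallyTrivialFor Scheme.zariskiPrecoverage X := by
  refine isLocallyTrivial_zariski fun s => ?_
  obtain ⟨_, ⟨U, hU, rfl⟩, hs, -⟩ := S.isBasis_affineOpens.exists_subset_of_mem_open (Set.mem_univ s) isOpen_univ
  obtain ⟨B, _, _, hB, ⟨x₀⟩⟩ := exists_cover_point Γ(S, U) hU.fromSpec (X := X)
  refine ⟨_, hU.fromSpec, inferInstance, by rw [hU.range_fromSpec]; exact hs, ?_⟩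
  exact ga_hasSection (R := Γ(S, U)) hU.fromSpec ha x₀

theorem gm_zariski {a : AlgGrp.Action (Red.Gm S) X} (ha : NonAbH1.IsPseudoTorsorSch a)
    [IsAffineHom X.hom] [Flat X.hom] [Surjective X.hom] :
    NonAbH1.IsLocallyTrivialFor Scheme.zariskiPrecoverage X := by
  refine isLocallyTrivial_zariski fun s => ?_
  obtain ⟨_, ⟨U, hU, rfl⟩, hs, -⟩ := S.isBasis_affineOpens.exists_subset_of_mem_open (Set.mem_univ s) isOpen_univ
  obtain ⟨B, _, _, hB, ⟨x₀⟩⟩ := exists_cover_point Γ(S, U) hU.fromSpec (X := X)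
  let p := hU.primeIdealOf ⟨s, hs⟩
  obtain ⟨r, hr, hsec⟩ := gm_hasSection_near (R := Γ(S, U)) hU.fromSpec ha x₀ p
  refine ⟨_, j' (R := Γ(S, U)) hU.fromSpec (Localization.Away r), inferInstance, ?_, hsec⟩
  have hp : p ∈ Set.range (PrimeSpectrum.comap (algebraMap Γ(S, U) (Localization.Away r))) := by
    rw [PrimeSpectrum.localization_away_comap_range (Localization.Away r) r]
    exact hr
  obtain ⟨z, hz⟩ := hp
  refine ⟨z, ?_⟩
  have := hU.fromSpec_primeIdealOf ⟨s, hs⟩
  exact (congrArg hU.fromSpec hz).trans this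

end Groth.Agent.Tors9
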