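import Groth.Agent.DescLib.AmitsurAll
import Mathlib.RingTheory.Flat.FaithfullyFlat.Algebra

/-! Additive and multiplicative cocycles of a faithfully flat algebra. -/

set_option autoImplicit false
set_option backward.isDefEq.respectTransparency false
set_option backward.isDefEq.respectTransparency.types false
universe u

open TensorProduct Groth.Agent.DescLib

noncomputable section

namespace Groth.Agent.Tors9

variable (R B : Type u) [CommRing R] [CommRing B] [Algebra R B]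

abbrev iL : B →ₐ[R] B ⊗[R] B := Algebra.TensorProduct.includeLeft
abbrev iR : B →ₐ[R] B ⊗[R] B := Algebra.TensorProduct.includeRight
abbrev i₁ : B →ₐ[R] B ⊗[R] (B ⊗[R] B) := Algebra.TensorProduct.includeLeft
abbrev i₂ : B →ₐ[R] B ⊗[R] (B ⊗[R] B) :=
  (Algebra.TensorProduct.includeRight : B ⊗[R] B →ₐ[R] B ⊗[R] (B ⊗[R] B)).comp (iL R B)
abbrev i₃ : B →ₐ[R] B ⊗[R] (B ⊗[R] B) :=
  (Algebra.TensorProduct.includeRight : B ⊗[R] B →ₐ[R] B ⊗[R] (B ⊗[R] B)).comp (iR R B)
abbrev e₁₂ : B ⊗[R] B →ₐ[R] B ⊗[R] (B ⊗[R] B) := Algebra.TensorProduct.productMap (i₁ R B) (i₂ R B)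
abbrev e₁₃ : B ⊗[R] B →ₐ[R] B ⊗[R] (B ⊗[R] B) := Algebra.TensorProduct.productMap (i₁ R B) (i₃ R B)
abbrev e₂₃ : B ⊗[R] B →ₐ[R] B ⊗[R] (B ⊗[R] B) := Algebra.TensorProduct.productMap (i₂ R B) (i₃ R B)

variable {R B}

theorem e₂₃_eq : e₂₃ R B = Algebra.TensorProduct.includeRight := by
  ext <;> simp

/-- An additive cocycle is a coboundary. -/
theorem add_coboundary [Module.FaithfullyFlat R B] (τ : B ⊗[R] B) (h : e₁₃ R B τ = e₁₂ R B τ + e₂₃ R B τ) :
    ∃ c : B, τ = iL R B c - iR R B c := by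
  have h0 : (AmitsurAll.face R B 1 0 : B ⊗[R] B →ₐ[R] B ⊗[R] (B ⊗[R] B)) = e₂₃ R B := by
    refine AmitsurAll.hom_ext (n := 1) fun j a => ?_
    rw [AmitsurAll.face, AmitsurAll.lift_incl]
    fin_cases j
    · exact (Algebra.TensorProduct.productMap_left_apply (i₂ R B) (i₃ R B) a).symm
    · exact (Algebra.TensorProduct.productMap_right_apply (i₂ R B) (i₃ R B) a).symm
  have h1 : (AmitsurAll.face R B 1 1 : B ⊗[R] B →ₐ[R] B ⊗[R] (B ⊗[R] B)) = e₁₃ R B := by
    refine AmitsurAll.hom_ext (n := 1) fun j a => ?_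
    rw [AmitsurAll.face, AmitsurAll.lift_incl]
    fin_cases j
    · exact (Algebra.TensorProduct.productMap_left_apply (i₁ R B) (i₃ R B) a).symm
    · exact (Algebra.TensorProduct.productMap_right_apply (i₁ R B) (i₃ R B) a).symm
  have h2 : (AmitsurAll.face R B 1 2 : B ⊗[R] B →ₐ[R] B ⊗[R] (B ⊗[R] B)) = e₁₂ R B := by
    refine AmitsurAll.hom_ext (n := 1) fun j a => ?_
    rw [AmitsurAll.face, AmitsurAll.lift_incl]
    fin_cases j
    · exact (Algebra.TensorProduct.productMap_left_apply (i₁ R B) (i₂ R B) a).symm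
    · exact (Algebra.TensorProduct.productMap_right_apply (i₁ R B) (i₂ R B) a).symm
  have hD : AmitsurAll.D R B 1 τ = 0 := by
    rw [AmitsurAll.D, LinearMap.sum_apply, Fin.sum_univ_three]
    simp only [AlgHom.toLinearMap_apply, Fin.val_zero, Fin.val_one, Fin.val_two, pow_zero,
      pow_one, one_smul, neg_one_sq, neg_one_zsmul, LinearMap.neg_apply]
    have := DFunLike.congr_fun h0 τ
    have := DFunLike.congr_fun h1 τ
    have := DFunLike.congr_fun h2 τ
    simp only [*]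
    have key : ∀ a b c : B ⊗[R] (B ⊗[R] B), b = c + a → a + -b + c = 0 := fun a b c hb => by rw [hb]; abel
    exact key _ _ _ h
  obtain ⟨c, hc⟩ := AmitsurAll.exact_D 0 τ hD
  refine ⟨-c, ?_⟩
  rw [← hc, AmitsurAll.D, LinearMap.sum_apply, Fin.sum_univ_two]
  simp only [AlgHom.toLinearMap_apply, Fin.val_zero, Fin.val_one, pow_zero,
    pow_one, one_smul, neg_smul, map_neg]
  have hf0 : AmitsurAll.face R B 0 0 c = iR R B c :=
    (DFunLike.congr_fun (AmitsurAll.face_zero (R := R) (A := B) 0) c).trans rfl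
  have hf1 : AmitsurAll.face R B 0 1 c = iL R B c := rfl
  change AmitsurAll.face R B 0 0 c + -(AmitsurAll.face R B 0 1 c) = -(iL R B c) - -(iR R B c)
  rw [hf0, hf1]
  exact (sub_eq_add_neg _ _).symm.trans ((neg_sub _ _).symm.trans (by abel))

/-- The elements spanning the descended line of a multiplicative cocycle. -/
def line (τ : B ⊗[R] B) : Set B := {b | iL R B b = τ * iR R B b}

/-- The descended line of a multiplicative cocycle generates. -/
theorem span_line_eq_top [Module.Flat R B] (τ : (B ⊗[R] B)ˣ)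
    (h : e₁₃ R B τ = e₁₂ R B τ * e₂₃ R B τ) : Ideal.span (line (τ : B ⊗[R] B)) = ⊤ := by
  let D : B →ₗ[R] B ⊗[R] B :=
    (iL R B).toLinearMap - (LinearMap.mulLeft R (τ : B ⊗[R] B)).comp (iR R B).toLinearMap
  have hmem : ∀ b ∈ LinearMap.ker D, b ∈ line (τ : B ⊗[R] B) := fun b hb => sub_eq_zero.mp hb
  let x : B ⊗[R] B := ↑τ⁻¹
  have hlT : ∀ z, D.lTensor B z = e₁₂ R B z - e₂₃ R B τ * e₁₃ R B z := fun z => by
    induction z using TensorProduct.induction_on with
    | zero => simp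
    | add a b ha hb => rw [map_add, map_add, map_add, ha, hb]; ring
    | tmul β b =>
      rw [e₂₃_eq]
      simp [D]
  have hx : D.lTensor B x = 0 := by
    rw [hlT, sub_eq_zero]
    have h' : Units.map ((e₁₃ R B).toRingHom.toMonoidHom) τ = Units.map ((e₁₂ R B).toRingHom.toMonoidHom) τ * Units.map ((e₂₃ R B).toRingHom.toMonoidHom) τ :=
      Units.ext h
    have h'' : Units.map ((e₁₂ R B).toRingHom.toMonoidHom) τ⁻¹ = Units.map ((e₂₃ R B).toRingHom.toMonoidHom) τ * Units.map ((e₁₃ R B).toRingHom.toMonoidHom) τ⁻¹ := by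
      rw [map_inv, map_inv, h', mul_inv_rev]
      group
    exact congrArg Units.val h''
  obtain ⟨y, hy⟩ := (Module.Flat.lTensor_exact B (LinearMap.exact_subtype_ker_map D) x).mp hx
  let δ : B ⊗[R] B →ₐ[R] B := Algebra.TensorProduct.productMap (AlgHom.id R B) (AlgHom.id R B)
  have hy' : δ x ∈ Ideal.span (line (τ : B ⊗[R] B)) := by
    rw [← hy]
    clear hy
    induction y using TensorProduct.induction_on with
    | zero => simp
    | add a b ha hb => rw [map_add, map_add]; exact add_mem ha hb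
    | tmul β b =>
      simp only [LinearMap.lTensor_tmul, δ, Algebra.TensorProduct.productMap_apply_tmul, AlgHom.coe_id, id_eq]
      exact Ideal.mul_mem_left _ _ (Ideal.subset_span (hmem _ b.2))
  have hτ : δ τ = 1 := by
    let δ₃ : B ⊗[R] (B ⊗[R] B) →ₐ[R] B := Algebra.TensorProduct.productMap (AlgHom.id R B) δ
    have ha : δ₃.comp (e₁₂ R B) = δ := by ext <;> simp [δ₃, δ]
    have hb : δ₃.comp (e₁₃ R B) = δ := by ext <;> simp [δ₃, δ]
    have hc : δ₃.comp (e₂₃ R B) = δ := by ext <;> simp [δ₃, δ]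
    have h2 := congrArg δ₃ h
    rw [map_mul] at h2
    simp only [← AlgHom.comp_apply, ha, hb, hc] at h2
    exact (IsUnit.mul_eq_left (τ.isUnit.map δ)).mp h2.symm
  have h1 : δ x = 1 := by
    have := congrArg δ τ.inv_mul
    rw [map_mul, hτ, mul_one, map_one] at this
    exact this
  rw [Ideal.eq_top_iff_one, ← h1]
  exact hy'

/-- Near every prime a multiplicative cocycle is a coboundary. -/
theorem exists_line_pair [Module.FaithfullyFlat R B] (τ : (B ⊗[R] B)ˣ)
    (h : e₁₃ R B τ = e₁₂ R B τ * e₂₃ R B τ) (p : PrimeSpectrum R) :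
    ∃ r ∉ p.asIdeal, ∃ b ∈ line (τ : B ⊗[R] B), ∃ b' : B, b * b' = algebraMap R B r := by
  have h' : e₁₃ R B (τ⁻¹ : (B ⊗[R] B)ˣ) = e₁₂ R B (τ⁻¹ : (B ⊗[R] B)ˣ) * e₂₃ R B (τ⁻¹ : (B ⊗[R] B)ˣ) := by
    refine left_inv_eq_right_inv (a := e₁₃ R B (τ : B ⊗[R] B)) ?_ ?_
    · rw [← map_mul, Units.inv_mul, map_one]
    · rw [h, mul_mul_mul_comm, ← map_mul, ← map_mul, Units.mul_inv, map_one, map_one, mul_one]
  obtain ⟨P, hP⟩ := PrimeSpectrum.comap_surjective_of_faithfullyFlat (A := R) (B := B) p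
  obtain ⟨b, hb, hbP⟩ : ∃ b ∈ line (τ : B ⊗[R] B), b ∉ P.asIdeal := by
    by_contra hc
    push Not at hc
    exact P.2.ne_top (top_le_iff.mp ((span_line_eq_top τ h).ge.trans (Ideal.span_le.mpr hc)))
  obtain ⟨b', hb', hbP'⟩ : ∃ b ∈ line ((τ⁻¹ : (B ⊗[R] B)ˣ) : B ⊗[R] B), b ∉ P.asIdeal := by
    by_contra hc
    push Not at hc
    exact P.2.ne_top (top_le_iff.mp ((span_line_eq_top τ⁻¹ h').ge.trans (Ideal.span_le.mpr hc)))
  have hprod : iL R B (b * b') = iR R B (b * b') := by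
    rw [map_mul, map_mul, hb, hb', mul_mul_mul_comm, Units.mul_inv, one_mul]
  obtain ⟨r, hr⟩ : b * b' ∈ LinearMap.range (Algebra.linearMap R B) := by
    refine mem_range_of_one_tmul_mem (A := B) _ _ ⟨(b * b') ⊗ₜ[R] (1 : R), ?_⟩
    rw [LinearMap.lTensor_tmul, Algebra.linearMap_apply, map_one]
    exact hprod
  refine ⟨r, fun hrp => ?_, b, hb, b', hr.symm⟩
  have : algebraMap R B r ∈ P.asIdeal := by rw [← hP] at hrp; exact hrp
  rcases P.2.mem_or_mem (show b * b' ∈ P.asIdeal from hr ▸ this) with h | h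
  · exact hbP h
  · exact hbP' h

end Groth.Agent.Tors9
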